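import Mathlib
import Cfsg.Agent.H672.RM.Triple
import Cfsg.Agent.H672.RM.Cliff
import Cfsg.Agent.H381.PB.Both
import Cfsg.Agent.H57.RIM.Field
import Cfsg.Prelude.Def_KGroupFacts

/-!
# S4816, case B: characters over a character of `E` and a linear character of the centre; the index of `E C(E)` (helper756)

* `exists_over_two_lin` : `Z ≤ Z(G)`, `ψ ∈ Irr(E)` and `l` agree on `E ∩ Z`: some `χ ∈ Irr(G)` lies over both;
* `index_dvd_out` : `|G : E C_G(E)|` divides `|Out (E / Z(E))|` for `E` normal and perfect.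
-/

set_option autoImplicit false
set_option linter.unusedSectionVars false

open Cfsg Subgroup
open scoped ComplexConjugate

namespace Cfsg.Agent.H756.RIM

open Cfsg.Agent.H672
open Cfsg.Agent.Characters.Core (isIrr_isClassFunction isIrr_apply_one_ne_zero classInner_conj_symm)
open Cfsg.Agent.CharactersDeep.NormalInd

universe u v

/-- some irreducible character of `G` lies over `ψ ∈ Irr(E)` and over the linear character `l` of the central subgroup `Z` -/
theorem exists_over_two_lin {G : Type u} [Group G] [Finite G] (E Z : Subgroup G) (hZ : Z ≤ center G)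
    {ψ : E → ℂ} (hψ : IsIrrCharacter E ψ) (l : Z →* ℂˣ)
    (h : ∀ x (hx : x ∈ E) (hx' : x ∈ Z), ψ ⟨x, hx⟩ = ψ 1 * l ⟨x, hx'⟩) :
    ∃ χ : G → ℂ, IsIrrCharacter G χ ∧ Over E.subtype χ ψ ∧ ∀ z : Z, χ z = χ 1 * l z := by
  classical
  have := Fintype.ofFinite G
  have := Fintype.ofFinite E
  have := Fintype.ofFinite Z
  have hfin' : Finite (IrrCharacter G) := Characters.Core.finite_irr
  have hfin : Fintype (IrrCharacter G) := Fintype.ofFinite _
  have hα := isIrr_isClassFunction hψ
  have hlirr : IsIrrCharacter Z (lf l) := isIrr_lf l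
  have hβ := isIrr_isClassFunction hlirr
  have hlv : ∀ z : Z, lf l z = (l z : ℂ) := fun z => rfl
  have hψ1 : ψ 1 ≠ 0 := isIrr_apply_one_ne_zero hψ
  -- the induced functions are not orthogonal
  have hne : classInner (indFun E ψ) (indFun Z (lf l)) ≠ 0 := by
    rw [classInner_indFun E _ _ (indFun_isClassFunction Z _)]
    have hval : ∀ k : E, ψ k * conj (indFun Z (lf l) k) =
        if (k : G) ∈ Z then ((Z.index : ℂ) * ψ 1) else 0 := by
      intro k
      have hcomm : ∀ (hk : (k : G) ∈ Z) (x : G), x⁻¹ * (k : G) * x = k := by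
        intro hk x
        have h1 := mem_center_iff.1 (hZ hk) x
        rw [mul_assoc, ← h1]
        group
      split_ifs with hk
      · have h1 : indFun Z (lf l) k = Z.index * (l ⟨k, hk⟩ : ℂ) := by
          rw [indFun_apply]
          have h2 : ∀ x : G, extendByZero Z (lf l) (x⁻¹ * k * x) = (l ⟨k, hk⟩ : ℂ) := by
            intro x
            rw [hcomm hk x, extendByZero_of_mem Z _ hk, hlv]
          simp only [h2, Finset.sum_const, Finset.card_univ, nsmul_eq_mul]
          have h5 : (Nat.card Z : ℂ) ≠ 0 := Nat.cast_ne_zero.2 Nat.card_pos.ne'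
          rw [← Nat.card_eq_fintype_card, ← Z.card_mul_index]
          push_cast
          field_simp
        have h6 : ψ k = ψ 1 * (l ⟨k, hk⟩ : ℂ) := h k k.2 hk
        rw [h1, h6, map_mul, Complex.conj_natCast]
        have h7 : (l ⟨k, hk⟩ : ℂ) * conj (l ⟨k, hk⟩ : ℂ) = 1 := by
          rw [Complex.mul_conj, Complex.normSq_eq_norm_sq, Characters.Linear.norm_hom_apply]
          norm_num
        calc ψ 1 * (l ⟨k, hk⟩ : ℂ) * ((Z.index : ℂ) * conj (l ⟨k, hk⟩ : ℂ)) =
            (Z.index : ℂ) * ψ 1 * ((l ⟨k, hk⟩ : ℂ) * conj (l ⟨k, hk⟩ : ℂ)) := by ring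
          _ = _ := by rw [h7, mul_one]
      · have h1 : indFun Z (lf l) k = 0 := by
          rw [indFun_apply]
          have h2 : ∀ x : G, extendByZero Z (lf l) (x⁻¹ * k * x) = 0 := by
            intro x
            apply extendByZero_of_not_mem
            intro h3
            apply hk
            have h4 := mem_center_iff.1 (hZ h3) x
            have e : (k : G) = x⁻¹ * (k : G) * x := by
              have : x * (x⁻¹ * (k : G) * x) * x⁻¹ = k := by group
              rw [h4, mul_inv_cancel_right] at this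
              exact this.symm
            rw [e]
            exact h3
          simp [h2]
        rw [h1, map_zero, mul_zero]
    unfold classInner
    simp only [hval]
    refine mul_ne_zero (inv_ne_zero (Nat.cast_ne_zero.2 Nat.card_pos.ne')) ?_
    rw [← Finset.sum_filter, Finset.sum_const, nsmul_eq_mul]
    refine mul_ne_zero (Nat.cast_ne_zero.2 ?_) (mul_ne_zero (Nat.cast_ne_zero.2 index_ne_zero_of_finite) hψ1)
    refine Finset.card_ne_zero.2 ⟨1, ?_⟩
    simp
  rw [Characters.Core.classInner_eq_sum (indFun_isClassFunction E _) (indFun_isClassFunction Z _)] at hne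
  obtain ⟨χ, -, hχ⟩ := Finset.exists_ne_zero_of_sum_ne_zero hne
  have h1 := left_ne_zero_of_mul hχ
  have h2 : classInner (indFun Z (lf l)) (χ : G → ℂ) ≠ 0 := by
    intro h0
    apply right_ne_zero_of_mul hχ
    rw [h0, map_zero]
  rw [classInner_indFun E _ _ (isIrr_isClassFunction χ.2)] at h1
  rw [classInner_indFun Z _ _ (isIrr_isClassFunction χ.2)] at h2
  have hsymm : ∀ {H : Subgroup G} [Fintype H] (a b : H → ℂ), classInner a b ≠ 0 → classInner b a ≠ 0 := by
    intro H _ a b hab h0
    apply hab
    rw [← classInner_conj_symm, h0, map_zero]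
  refine ⟨χ, χ.2, (over_iff _ _ _).2 (hsymm _ _ h1), ?_⟩
  exact (H672.RM.over_lin_iff Z.subtype (fun z => hZ z.2) χ.2 l).1 ((over_iff _ _ _).2 (hsymm _ _ h2))

open Cfsg.Agent.H57.RIM (qz qz_mk eq_of_qz)

/-- the index of `E C_G(E)` divides `|Out (E / Z(E))|` -/
theorem index_dvd_out {G : Type u} [Group G] [Finite G] (E : Subgroup G) [hE : E.Normal] (hperf : commutator E = ⊤) :
    (E ⊔ centralizer (E : Set G)).index ∣ Nat.card (Out (E ⧸ center E)) := by
  let f : G →* Out (E ⧸ center E) := (QuotientGroup.mk' _).comp ((qz E).comp MulAut.conjNormal)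
  have hker : f.ker ≤ E ⊔ centralizer (E : Set G) := by
    intro g hg
    have h1 : (qz E (MulAut.conjNormal g) : MulAut (E ⧸ center E)) ∈ Inn (E ⧸ center E) :=
      (QuotientGroup.eq_one_iff _).1 hg
    obtain ⟨y, hy⟩ := h1
    obtain ⟨x, rfl⟩ := QuotientGroup.mk'_surjective _ y
    have h2 : ∀ w : E, ((MulAut.conjNormal (g * (x : G)⁻¹) w : E) : E ⧸ center E) = w := by
      intro w
      rw [← qz_mk, map_mul, map_mul, MulAut.mul_apply, map_inv, map_inv]
      have h3 : qz E (MulAut.conjNormal (x : G)) = MulAut.conj ((x : E) : E ⧸ center E) := by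
        apply MulEquiv.ext
        intro v
        obtain ⟨v, rfl⟩ := QuotientGroup.mk_surjective v
        rw [qz_mk, MulAut.conj_apply, ← QuotientGroup.mk_inv, ← QuotientGroup.mk_mul, ← QuotientGroup.mk_mul]
        congr 1
      rw [h3, ← hy]
      change (MulAut.conj ((x : E) : E ⧸ center E)) ((MulAut.conj ((x : E) : E ⧸ center E))⁻¹ _) = _
      rw [← MulAut.mul_apply, mul_inv_cancel, MulAut.one_apply]
    have h4 := eq_of_qz hperf h2
    have h5 : g * (x : G)⁻¹ ∈ centralizer (E : Set G) := by
      rw [mem_centralizer_iff]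
      intro w hw
      have h6 := congrArg Subtype.val (h4 ⟨w, hw⟩)
      rw [MulAut.conjNormal_apply] at h6
      have h7 : g * (x : G)⁻¹ * w * (g * (x : G)⁻¹)⁻¹ = w := h6
      rw [mul_inv_eq_iff_eq_mul] at h7
      exact h7.symm
    have h8 : g = (g * (x : G)⁻¹) * x := by group
    rw [h8]
    exact Subgroup.mul_mem _ (mem_sup_right h5) (mem_sup_left x.2)
  refine (index_dvd_of_le hker).trans ?_
  rw [index_ker]
  exact card_subgroup_dvd_card _

end Cfsg.Agent.H756.RIM
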