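import Mathlib
import Cfsg.Agent.H229.RIM.Str
import Cfsg.Agent.H696.RIM.RowR
import Cfsg.Agent.H756.RIM.Two

/-!
# S4816, case B with one component (helper756)

`noCaseB1` : `CaseB1 p Z E l` does not occur, if
* every simple group `S` with `p ∣ |S|` has `NBall p S`, or abelian Sylow `p`-subgroups and `OutOK p S`;
* `L34` : `L_3(4)` and `p = 3` (helper234);
* Ito-Michler.
-/

set_option autoImplicit false
set_option linter.unusedSectionVars false
set_option linter.style.haveILetI false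

open Cfsg Subgroup

namespace Cfsg.Agent.H756.RIM

open Cfsg.Agent.H229.RIM Cfsg.Agent.H665.RIM Cfsg.Agent.H672
open scoped commutatorElement

universe u v

/-- the outer automorphisms of order `p` of the survivors -/
def OutOK (p : ℕ) (S : Type u) [Group S] : Prop :=
  (∃ (F : Type) (_ : Field F) (_ : Fintype F), CharP F p ∧
    Nonempty (S ≃* Matrix.ProjectiveSpecialLinearGroup (Fin 2) F)) ∨
  (p = 3 ∧ ∃ (F : Type) (_ : Field F) (_ : Fintype F), Fintype.card F = 4 ∧
    Nonempty (S ≃* Matrix.ProjectiveSpecialLinearGroup (Fin 3) F)) ∨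
  ¬ p ∣ Nat.card (Out S)

/-- `L_3(4)`, `p = 3` (B-L34, helper234) -/
def L34 : Prop :=
  ∀ (K : Type) [Field K] [Fintype K], Fintype.card K = 4 → ∀ (G : Type u) [Group G] [Finite G] (Z E : Subgroup G),
    E.Normal → ⁅E, E⁆ = E → Z ≤ center G → ¬ 3 ∣ Nat.card Z → centralizer (E : Set G) ≤ Z →
    ∀ π : E →* Matrix.ProjectiveSpecialLinearGroup (Fin 3) K, Function.Surjective π →
      (∀ e : E, π e = 1 ↔ (e : G) ∈ Z) → 3 ∣ (E ⊔ Z).index → ∀ e : E, (e : G) ∈ Z → e = 1

/-- a `p`-subgroup lies in every normal subgroup of index prime to `p` -/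
theorem le_of_not_dvd {p : ℕ} (hp : p.Prime) {G : Type u} [Group G] [Finite G] {E S : Subgroup G} [E.Normal]
    (hE : ¬ p ∣ E.index) (hS : IsPGroup p S) : S ≤ E := by
  intro s hs
  obtain ⟨k, hk⟩ := hS ⟨s, hs⟩
  have h1 : s ^ p ^ k = 1 := congrArg Subtype.val hk
  rw [← QuotientGroup.eq_one_iff]
  have h2 : ((s : G ⧸ E)) ^ p ^ k = 1 := by
    rw [← QuotientGroup.mk_pow, h1]
    rfl
  have h3 : orderOf (s : G ⧸ E) ∣ p ^ k := orderOf_dvd_of_pow_eq_one h2
  have h4 : orderOf (s : G ⧸ E) ∣ E.index := orderOf_dvd_natCard _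
  have h5 : Nat.Coprime (p ^ k) E.index := Nat.Coprime.pow_left k ((Nat.Prime.coprime_iff_not_dvd hp).2 hE)
  exact orderOf_eq_one_iff.1 (Nat.eq_one_of_dvd_coprimes h5 h3 h4)

section

variable {p : ℕ} [hp : Fact p.Prime] {G : Type u} [Group G] [Finite G] {Z E : Subgroup G} {l : Z →* ℂˣ}
  (h : CaseB1 p Z E l)

/-- the restriction of `l` to the centre of `E` -/
def rl (h : CaseB1 p Z E l) : center E →* ℂˣ :=
  l.comp
    { toFun := fun n => ⟨((n : E) : G), (h.cenE n).1 n.2⟩
      map_one' := rfl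
      map_mul' := fun _ _ => rfl }

theorem rl_apply (n : center E) : rl h n = l ⟨((n : E) : G), (h.cenE n).1 n.2⟩ := rfl

include h in
theorem exists_chi {ψ : E → ℂ} (hψ : IsIrrCharacter E ψ) (hl : ∀ n : center E, ψ n = ψ 1 * rl h n) :
    ∃ χ : G → ℂ, IsIrrCharacter G χ ∧ Over E.subtype χ ψ ∧ ¬ p ∣ charDegree χ := by
  obtain ⟨χ, h1, h2, h3⟩ := exists_over_two_lin E Z h.min.cen hψ l (fun x hx hx' => by
    have h4 : (⟨x, hx⟩ : E) ∈ center E := (h.cenE _).2 hx'
    exact hl ⟨⟨x, hx⟩, h4⟩)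
  exact ⟨χ, h1, h2, h.min.bad χ h1 h3⟩

include h in
theorem bad_E : Bad p (center E) (rl h) := by
  haveI := h.nE
  intro ψ hψ hl hd
  obtain ⟨χ, h1, h2, h3⟩ := exists_chi h hψ hl
  exact h3 (hd.trans (charDegree_dvd_of_over E h1 hψ h2).1)

include h in
theorem inertia_idx {ψ : E → ℂ} (hψ : IsIrrCharacter E ψ) (hl : ∀ n : center E, ψ n = ψ 1 * rl h n) :
    haveI := h.nE; ¬ p ∣ (inertia E ψ).index := by
  haveI := h.nE
  intro hd
  obtain ⟨χ, h1, h2, h3⟩ := exists_chi h hψ hl
  exact h3 ((dvd_mul_of_dvd_left hd _).trans (index_mul_charDegree_dvd E h1 hψ h2))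

include h in
theorem pZ_E : ¬ p ∣ Nat.card (center E) := by
  intro hd
  apply h.min.pZ
  refine hd.trans ?_
  let f : center E →* Z :=
    { toFun := fun n => ⟨((n : E) : G), (h.cenE n).1 n.2⟩
      map_one' := rfl
      map_mul' := fun _ _ => rfl }
  have hf : Function.Injective f := by
    intro a b hab
    exact Subtype.ext (Subtype.ext (congrArg (fun z : Z => (z : G)) hab))
  exact Subgroup.card_dvd_of_injective f hf

include h in
theorem ne_bot (IM : ∀ (S : Type u) [Group S] [Finite S] (P : Sylow p S),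
      (∀ χ : IrrCharacter S, ¬ p ∣ charDegree (χ : S → ℂ)) → (P : Subgroup S).Normal) : center E ≠ ⊥ := by
  intro hc
  haveI := h.simp
  -- all degrees are prime to `p`
  have h1 : ∀ χ : IrrCharacter E, ¬ p ∣ charDegree (χ : E → ℂ) := by
    intro χ
    refine bad_E h χ χ.2 (fun n => ?_)
    have hn : (n : E) = 1 := mem_bot.1 (hc.le n.2)
    have hn' : n = 1 := Subtype.ext hn
    rw [hn', map_one]
    simp
  obtain ⟨P⟩ : Nonempty (Sylow p E) := inferInstance
  have h2 := IM E P h1
  let e : E ⧸ center E ≃* E := (QuotientGroup.quotientMulEquivOfEq hc).trans QuotientGroup.quotientBot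
  haveI : IsSimpleGroup E := e.symm.isSimpleGroup
  rcases IsSimpleGroup.eq_bot_or_eq_top_of_normal (P : Subgroup E) h2 with h3 | h3
  · have h4 := P.card_eq_multiplicity
    rw [h3, card_bot] at h4
    have h5 : 0 < (Nat.card E).factorization p := hp.out.factorization_pos_of_dvd Nat.card_pos.ne' h.pE
    exact absurd h4.symm (Nat.one_lt_pow h5.ne' hp.out.one_lt).ne'
  · have h4 : IsPGroup p E := by
      have h5 := P.isPGroup'
      rw [h3] at h5
      exact h5.of_equiv topEquiv
    have h6 : Nontrivial (center E) := h4.center_nontrivial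
    exact absurd hc (Subgroup.nontrivial_iff_ne_bot _ |>.1 h6)

include h in
theorem qBad_of (hne : center E ≠ ⊥) : QBad p (center E) (rl h) where
  odd := h.min.odd
  perf := h.perf
  simp := h.simp
  pZ := pZ_E h
  pE := h.pE
  cen := le_rfl
  Nne := hne
  inj := by
    intro a b hab
    have := h.min.inj hab
    exact Subtype.ext (Subtype.ext (congrArg (fun z : Z => (z : G)) this))
  bad := bad_E h

end

/-- **Case B with one component does not occur.** -/
theorem noCaseB1 {p : ℕ} [hp : Fact p.Prime]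
    (hR : ∀ (S : Type u) [Group S] [Finite S] [IsSimpleGroup S], ¬ IsMulCommutative S → p ∣ Nat.card S →
      NBall.{u} p S ∨ (AbSyl p S ∧ OutOK p S))
    (hL : p = 3 → L34.{u})
    (IM : ∀ (S : Type u) [Group S] [Finite S] (P : Sylow p S),
      (∀ χ : IrrCharacter S, ¬ p ∣ charDegree (χ : S → ℂ)) → (P : Subgroup S).Normal) : NoCaseB1.{u} p := by
  intro G _ _ Z E l h
  haveI := h.nE
  haveI := h.simp
  have hne := ne_bot h IM
  have hQ := qBad_of h hne
  rcases hR (E ⧸ center E) h.na (H696.RIM.qBad_dvd hp.out hQ) with hN | ⟨hab, hO⟩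
  · exact H696.RIM.not_qBad hN hQ
  -- `p` divides `|G : E Z|`
  have hidx : p ∣ (E ⊔ Z).index := by
    by_contra hd
    obtain ⟨S, hS, a, ha, b, hb, hab'⟩ := h.min.exists_pair
    have h1 : ¬ p ∣ E.index := by
      rw [← relIndex_mul_index (le_sup_left : E ≤ E ⊔ Z)]
      intro h2
      rcases hp.out.dvd_mul.1 h2 with h3 | h3
      · apply h.min.pZ
        rw [sup_comm, relIndex_sup_right] at h3
        exact h3.trans (relIndex_dvd_card _ _)
      · exact hd h3
    have h2 : S ≤ E := le_of_not_dvd hp.out h1 hS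
    have h3 : IsPGroup p (S.subgroupOf E) := hS.comap_of_injective E.subtype E.subtype_injective
    have h4 := H696.RIM.qBad_comm hQ hab h3 hp.out ⟨a, h2 ha⟩ (mem_subgroupOf.2 ha) ⟨b, h2 hb⟩ (mem_subgroupOf.2 hb)
    have h5 : a * b = b * a := congrArg Subtype.val h4
    apply hab'
    rw [commutatorElement_eq_one_iff_mul_comm.2 h5]
    exact Z.one_mem
  have hidx' : p ∣ (E ⊔ centralizer (E : Set G)).index := by rwa [h.cent]
  rcases hO with ⟨F, _, _, hF, ⟨e⟩⟩ | ⟨rfl, F, _, _, hF, ⟨e⟩⟩ | hO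
  · obtain ⟨ψ, h1, h2, h3⟩ := H57.RIM.rowOut_psl2_char hp.out (F := F) E (center E) (rl h) h.nE hQ
      (fun n hn => h.min.cen ((h.cenE n).1 hn)) ⟨e⟩ hidx'
    refine inertia_idx h h1 h2 (h3 _ ?_)
    intro g hg x y hxy
    have h4 := mem_inertia_iff.1 hg x
    rw [← h4]
    congr 1
    exact Subtype.ext hxy
  · apply hne
    have h0 : ⁅E, E⁆ = E := by
      have h1 : (commutator E).map E.subtype = ⁅E, E⁆ := by
        rw [commutator_def, map_commutator, ← MonoidHom.range_eq_map, range_subtype]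
      rw [← h1, h.perf, ← MonoidHom.range_eq_map, range_subtype]
    have h1 := hL rfl F hF G Z E h.nE h0 h.min.cen h.min.pZ h.cent.le
      (e.toMonoidHom.comp (QuotientGroup.mk' (center E))) (e.surjective.comp (QuotientGroup.mk'_surjective _))
      (fun x => by
        rw [← h.cenE x]
        simp only [MonoidHom.comp_apply, MulEquiv.coe_toMonoidHom]
        rw [map_eq_one_iff _ e.injective]
        exact QuotientGroup.eq_one_iff x) hidx
    rw [eq_bot_iff]
    intro x hx
    exact h1 x ((h.cenE x).1 hx)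
  · exact hO (hidx'.trans (index_dvd_out E h.perf))

end Cfsg.Agent.H756.RIM
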