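import Cfsg.Agent.H325.RIM.Surv
import Cfsg.Agent.H199.RIM.OutB
import Cfsg.Agent.H756.RIM.CaseB1

/-!
# S4816: outer automorphisms of order `p` of the survivors (helper756)

`outOK_of_surv` : a survivor `S` at the odd prime `p` is `PSL_2(p^f)`, or `L_3(4)` with `p = 3`, or `p ∤ |Out S|`.
-/

set_option autoImplicit false
set_option linter.unusedSectionVars false

open Cfsg Subgroup

namespace Cfsg.Agent.H756.RIM

open Cfsg.Agent.H665.RIM Cfsg.Agent.H325.RIM Cfsg.Agent.OrdDiv Cfsg.Agent.H436 Cfsg.Agent.H199.RIM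

universe u v

/-- the primes 2 and 3 -/
theorem not_dvd_of_small {p n : ℕ} (hp : p.Prime) (h2 : p ≠ 2) (hn : n = 1 ∨ n = 2 ∨ n = 4 ∨ n = 8) : ¬ p ∣ n := by
  rcases hn with rfl | rfl | rfl | rfl
  · exact not_dvd_pow (k := 0) hp h2
  · exact not_dvd_pow (k := 1) hp h2
  · exact not_dvd_pow (k := 2) hp h2
  · exact not_dvd_pow (k := 3) hp h2

theorem outOK_of_surv {p : ℕ} (hp : p.Prime) (h2 : p ≠ 2) {S : Type u} [Group S] [Finite S] [IsSimpleGroup S]
    (hna : ¬ IsMulCommutative S) (h : Surv p S) : OutOK p S := by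
  obtain ⟨g, hg, hs⟩ := h
  have key : ¬ p ∣ Idx S → OutOK p S := fun h => Or.inr (Or.inr h)
  have spor : IsSporadicGroup S → OutOK p S := fun h => key (nout_spor hp h2 h)
  have hr := hg.real
  cases g with
  | alt n =>
    obtain ⟨e⟩ := hr
    have hn : 5 ≤ n := by
      rcases hs with ⟨rfl, -⟩ | ⟨rfl, -⟩ | ⟨rfl, -⟩ <;> norm_num
    exact key (nout_alt hna hp h2 hn e)
  | psl n q =>
    obtain ⟨F, i1, i2, rfl, ⟨e⟩⟩ := hr
    rcases hs with ⟨rfl, h⟩ | ⟨rfl, hq, rfl | h⟩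
    · left
      obtain ⟨r, hr⟩ := CharP.exists F
      have hrp : r.Prime := (CharP.char_is_prime_or_zero F r).resolve_right (CharP.char_ne_zero_of_finite F r)
      have : Fact r.Prime := ⟨hrp⟩
      obtain ⟨n, -, hn⟩ := FiniteField.card F r
      have h1 : p = r := (Nat.prime_dvd_prime_iff_eq hp hrp).1 (hp.dvd_of_dvd_pow (hn ▸ h))
      subst h1
      exact ⟨F, i1, i2, hr, ⟨e⟩⟩
    · exact Or.inr (Or.inl ⟨rfl, F, i1, i2, hq, ⟨e⟩⟩)
    · apply key
      rw [idx_l34 hna hq e]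
      rcases h with rfl | rfl <;> norm_num
  | psu n q =>
    obtain ⟨F, i1, i2, hF, ⟨e⟩⟩ := hr
    apply key
    rcases hs with ⟨rfl, rfl, h⟩ | ⟨rfl, rfl, h⟩
    · rw [idx_u43 hna (by rw [hF]; norm_num) e]
      exact not_dvd_of_small hp h2 (by norm_num)
    · rw [idx_u62 hna (by rw [hF]; norm_num) e]
      rcases h with rfl | rfl | rfl <;> norm_num
  | psp m q =>
    obtain ⟨F, i1, i2, hF, ⟨e⟩⟩ := hr
    obtain ⟨rfl, rfl, h⟩ := hs
    apply key
    rw [idx_sp62 hna hF e]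
    exact not_dvd_of_small hp h2 (by norm_num)
  | oodd m q =>
    obtain ⟨F, i1, i2, hF, ⟨e⟩⟩ := hr
    obtain ⟨rfl, rfl, h⟩ := hs
    apply key
    rw [idx_o73 hna hF e]
    exact not_dvd_of_small hp h2 (by norm_num)
  | oplus m q =>
    obtain ⟨F, i1, i2, hF, ⟨e⟩⟩ := hr
    obtain ⟨rfl, rfl, h⟩ := hs
    apply key
    rw [idx_o8p2 hna hF e]
    rcases h with rfl | rfl <;> norm_num
  | ominus m q =>
    obtain ⟨F, i1, i2, a, b, hF, hab, ⟨e⟩⟩ := hr
    obtain ⟨rfl, rfl, rfl⟩ := hs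
    apply key
    rw [idx_minus hna (r := 3) (f := 1) (m := 4) (by norm_num) le_rfl (by rw [hF]; norm_num) le_rfl a b hab e]
    decide
  | g2 q =>
    obtain ⟨F, i1, i2, hF, ⟨e⟩⟩ := hr
    apply key
    rcases hs with ⟨rfl, h⟩ | ⟨rfl, h⟩
    · rw [idx_g23 hF e]
      exact not_dvd_of_small hp h2 (by norm_num)
    · rw [idx_g24 hF e]
      exact not_dvd_of_small hp h2 (by norm_num)
  | f4 q =>
    obtain ⟨F, i1, i2, hF, ⟨e⟩⟩ := hr
    obtain ⟨rfl, h⟩ := hs
    apply key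
    rw [idx_f42 hF e]
    exact not_dvd_of_small hp h2 (by norm_num)
  | te6 q =>
    obtain ⟨F, i1, i2, hF, ⟨e⟩⟩ := hr
    obtain ⟨rfl, h⟩ := hs
    apply key
    rw [idx_2e62 (by rw [hF]; norm_num) e]
    rcases h with rfl | rfl | rfl | rfl | rfl | rfl <;> norm_num
  | sz q =>
    obtain ⟨F, i1, i2, m, hm, hF, hq, ⟨e⟩⟩ := hr
    obtain ⟨rfl, h⟩ := hs
    have hm1 : m = 1 := by
      have h3 : (2 : ℕ) ^ 3 = 2 ^ (2 * m + 1) := by rw [← hq]; norm_num
      have := Nat.pow_right_injective le_rfl h3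
      omega
    subst hm1
    apply key
    rw [idx_sz8 hF e]
    rcases h with rfl | rfl | rfl <;> norm_num
  | m12 => exact spor (.inr <| .inl hr)
  | m22 => exact spor (.inr <| .inr <| .inl hr)
  | j2 => exact spor (.inr <| .inr <| .inr <| .inr <| .inr <| .inr <| .inl hr)
  | j3 => exact spor (.inr <| .inr <| .inr <| .inr <| .inr <| .inr <| .inr <| .inl hr)
  | hs => exact spor (.inr <| .inr <| .inr <| .inr <| .inr <| .inr <| .inr <| .inr <| .inr <| .inr <| .inr <| .inr <| .inr <| .inl hr)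
  | mcl => exact spor (.inr <| .inr <| .inr <| .inr <| .inr <| .inr <| .inr <| .inr <| .inr <| .inr <| .inr <| .inr <| .inl hr)
  | suz => exact spor (.inr <| .inr <| .inr <| .inr <| .inr <| .inr <| .inr <| .inr <| .inr <| .inr <| .inr <| .inr <| .inr <| .inr <| .inl hr)
  | ru => exact spor (.inr <| .inr <| .inr <| .inr <| .inr <| .inr <| .inr <| .inr <| .inr <| .inr <| .inr <| .inr <| .inr <| .inr <| .inr <| .inr <| .inl hr)
  | on => exact spor (.inr <| .inr <| .inr <| .inr <| .inr <| .inr <| .inr <| .inr <| .inr <| .inr <| .inr <| .inr <| .inr <| .inr <| .inr <| .inr <| .inr <| .inl hr)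
  | co1 => exact spor (.inr <| .inr <| .inr <| .inr <| .inr <| .inr <| .inr <| .inr <| .inr <| .inl hr)
  | fi22 => exact spor (.inr <| .inr <| .inr <| .inr <| .inr <| .inr <| .inr <| .inr <| .inr <| .inr <| .inr <| .inr <| .inr <| .inr <| .inr <| .inr <| .inr <| .inr <| .inr <| .inl hr)
  | fi24 => exact spor (.inr <| .inr <| .inr <| .inr <| .inr <| .inr <| .inr <| .inr <| .inr <| .inr <| .inr <| .inr <| .inr <| .inr <| .inr <| .inr <| .inr <| .inr <| .inr <| .inr <| .inr <| .inl hr)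
  | b => exact spor (.inr <| .inr <| .inr <| .inr <| .inr <| .inr <| .inr <| .inr <| .inr <| .inr <| .inr <| .inr <| .inr <| .inr <| .inr <| .inr <| .inr <| .inr <| .inr <| .inr <| .inr <| .inr <| .inr <| .inr <| .inl hr)
  | _ => exact hs.elim

end Cfsg.Agent.H756.RIM
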