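import Cfsg.Agent.H325.RIM.Main
import Cfsg.Agent.H234.RIM.L34
import Cfsg.Agent.H756.RIM.SurvOut
import Cfsg.Agent.S0000
import Cfsg.Agent.S4760

/-!
# S4816, case B with one component, from the rows (helper756)
-/

set_option autoImplicit false
set_option linter.unusedSectionVars false

open Cfsg Subgroup

namespace Cfsg.Agent.H756.RIM

open Cfsg.Agent.H229.RIM Cfsg.Agent.H665.RIM Cfsg.Agent.H325.RIM

universe u

theorem l34 : L34.{u} := by
  intro K _ _ hK G _ _ Z E hE hperf hZ h3Z hC π hs hk h3
  exact Cfsg.Agent.H234.RIM.L34.l34 (by rw [Nat.card_eq_fintype_card]; exact hK) Z E hE hperf hZ h3Z hC π hs hk h3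

/-- every simple group of order divisible by the odd prime `p` is not bad, or has abelian Sylow `p`-subgroups and `OutOK p S` -/
theorem nball_or_outOK (R : RowsNB) {p : ℕ} (hp : p.Prime) (h2 : p ≠ 2) (S : Type u) [Group S] [Finite S]
    [IsSimpleGroup S] (hna : ¬ IsMulCommutative S) (hd : p ∣ Nat.card S) :
    NBall.{u} p S ∨ (AbSyl p S ∧ OutOK p S) := by
  rcases nb_or_surv R hp h2 (S0000.result (G := S)) (fun h => hna ⟨⟨h⟩⟩) hd with h | h
  · exact Or.inl h
  · exact Or.inr ⟨absyl_of_surv hp h2 h, outOK_of_surv hp h2 hna h⟩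

/-- **Case B with one component does not occur** (from the rows on the character side). -/
theorem noCaseB1_of_rows (R : RowsNB) (p : ℕ) [hp : Fact p.Prime] : NoCaseB1.{u} p := by
  intro G _ _ Z E l h
  exact noCaseB1 (fun S _ _ _ hna hd => nball_or_outOK R hp.out h.min.odd S hna hd) (fun _ => l34)
    (fun S _ _ P h => ((S4760.result p P).2 h).1) Z E l h

end Cfsg.Agent.H756.RIM
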